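import Cfsg.Agent.H93.PslCharpoly
import Cfsg.Agent.S2479

set_option autoImplicit false

/-! # `L₃(4)` has exactly ten conjugacy classes -/

namespace Cfsg.Agent.H93.LThreeFour

open Matrix PslCharpoly

variable {F : Type*} [Field F]

/-- conjugacy in a central quotient -/
theorem isConj_mk {G : Type*} [Group G] {Z : Subgroup G} [Z.Normal] {x y : G}
    (h : IsConj (QuotientGroup.mk x : G ⧸ Z) (QuotientGroup.mk y)) : ∃ z ∈ Z, IsConj x (y * z) := by
  obtain ⟨g, hg⟩ := isConj_iff.1 h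
  obtain ⟨g, rfl⟩ := QuotientGroup.mk_surjective g
  have h2 : (QuotientGroup.mk y : G ⧸ Z) = QuotientGroup.mk (g * x * g⁻¹) := hg.symm
  rw [QuotientGroup.eq] at h2
  exact ⟨_, h2, isConj_iff.2 ⟨g, by group⟩⟩

theorem val_mul {ι : Type*} [Fintype ι] [DecidableEq ι] (x y : SpecialLinearGroup ι F) :
    (x * y).1 = x.1 * y.1 := rfl

theorem val_inv {ι : Type*} [Fintype ι] [DecidableEq ι] (x : SpecialLinearGroup ι F) :
    (x⁻¹).1 = x.1.adjugate := rfl

/-- the trace is a class function -/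
theorem trace_of_isConj {ι : Type*} [Fintype ι] [DecidableEq ι] {x y : SpecialLinearGroup ι F} (h : IsConj x y) :
    x.1.trace = y.1.trace := by
  obtain ⟨c, hc⟩ := isConj_iff.1 h
  rw [← hc, val_mul, Matrix.trace_mul_comm, ← val_mul, ← mul_assoc, inv_mul_cancel, one_mul]

theorem trace_inv_of_isConj {ι : Type*} [Fintype ι] [DecidableEq ι] {x y : SpecialLinearGroup ι F} (h : IsConj x y) :
    (x⁻¹).1.trace = (y⁻¹).1.trace := by
  obtain ⟨c, hc⟩ := isConj_iff.1 h
  exact trace_of_isConj (isConj_iff.2 ⟨c, by rw [← hc]; group⟩)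

/-- a scalar of determinant one -/
def sc (r : F) (hr : r ^ 3 = 1) : SpecialLinearGroup (Fin 3) F :=
  ⟨r • 1, by rw [det_smul, det_one, mul_one, Fintype.card_fin, hr]⟩

theorem sc_inv (r : F) (hr : r ^ 3 = 1) : (sc r hr)⁻¹ = sc (r ^ 2) (by rw [← pow_mul, mul_comm, pow_mul, hr, one_pow]) := by
  rw [inv_eq_iff_mul_eq_one]
  apply Subtype.ext
  show (r • (1 : Matrix (Fin 3) (Fin 3) F)) * (r ^ 2 • (1 : Matrix (Fin 3) (Fin 3) F)) = 1
  rw [smul_mul_smul_comm, mul_one, ← pow_succ', hr, one_smul]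

theorem exists_sc {z : SpecialLinearGroup (Fin 3) F} (hz : z ∈ Subgroup.center (SpecialLinearGroup (Fin 3) F)) :
    ∃ r : F, ∃ hr : r ^ 3 = 1, z = sc r hr := by
  obtain ⟨r, hr, h⟩ := Matrix.SpecialLinearGroup.mem_center_iff.1 hz
  rw [Fintype.card_fin] at hr
  refine ⟨r, hr, Subtype.ext ?_⟩
  show z.1 = r • 1
  rw [← h, Matrix.smul_one_eq_diagonal]
  rfl

theorem trace_mul_sc (x : SpecialLinearGroup (Fin 3) F) (r : F) (hr : r ^ 3 = 1) :
    (x * sc r hr).1.trace = r * x.1.trace := by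
  have h1 : (x * sc r hr).1 = r • x.1 := by
    rw [val_mul]
    show x.1 * (r • 1) = _
    rw [mul_smul_comm, mul_one]
  rw [h1, Matrix.trace_smul, smul_eq_mul]

theorem trace_inv_mul_sc (x : SpecialLinearGroup (Fin 3) F) (r : F) (hr : r ^ 3 = 1) :
    ((x * sc r hr)⁻¹).1.trace = r ^ 2 * (x⁻¹).1.trace := by
  have h1 : (x * sc r hr)⁻¹ = x⁻¹ * sc (r ^ 2) (by rw [← pow_mul, mul_comm, pow_mul, hr, one_pow]) := by
    rw [_root_.mul_inv_rev, sc_inv]
    apply Subtype.ext
    show (r ^ 2 • (1 : Matrix (Fin 3) (Fin 3) F)) * (x⁻¹).1 = (x⁻¹).1 * (r ^ 2 • (1 : Matrix (Fin 3) (Fin 3) F))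
    rw [smul_mul_assoc, one_mul, mul_smul_comm, mul_one]
  rw [h1, trace_mul_sc]

/-- the pair of traces of `x` and `x⁻¹` -/
def tr2 (x : SpecialLinearGroup (Fin 3) F) : F × F := (x.1.trace, (x⁻¹).1.trace)

theorem tr2_of_isConj {x y : SpecialLinearGroup (Fin 3) F} (h : IsConj x y) : tr2 x = tr2 y :=
  Prod.ext (trace_of_isConj h) (trace_inv_of_isConj h)

/-- conjugate elements of `PSL₃(F)` -/
theorem tr2_of_isConj_mk {x y : SpecialLinearGroup (Fin 3) F}
    (h : IsConj (QuotientGroup.mk x : ProjectiveSpecialLinearGroup (Fin 3) F) (QuotientGroup.mk y)) :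
    ∃ r : F, ∃ hr : r ^ 3 = 1, IsConj x (y * sc r hr) ∧ tr2 x = (r * (tr2 y).1, r ^ 2 * (tr2 y).2) := by
  obtain ⟨z, hz, hz2⟩ := isConj_mk h
  obtain ⟨r, hr, rfl⟩ := exists_sc hz
  refine ⟨r, hr, hz2, ?_⟩
  rw [tr2_of_isConj hz2, tr2, trace_mul_sc, trace_inv_mul_sc]
  rfl

/-- the companion element -/
def cc (t s : F) : SpecialLinearGroup (Fin 3) F := ⟨c3 (t, s), det_c3 _⟩

theorem tr2_cc (t s : F) : tr2 (cc t s) = (t, s) := by
  rw [tr2, val_inv, cc]
  ext
  · simp [Matrix.trace_fin_three, c3]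
  · simp [Matrix.trace_fin_three, c3, Matrix.adjugate_fin_three]

/-- the Jordan type element -/
def jj (a : F) : SpecialLinearGroup (Fin 3) F := ⟨!![1, a, 0; 0, 1, 1; 0, 0, 1], by simp [Matrix.det_fin_three]⟩

/-- a transvection -/
def tv : SpecialLinearGroup (Fin 3) F := ⟨!![1, 0, 1; 0, 1, 0; 0, 0, 1], by simp [Matrix.det_fin_three]⟩

theorem tr2_jj (a : F) : tr2 (jj a) = (3, 3) := by
  rw [tr2, val_inv, jj]
  ext
  · simp [Matrix.trace_fin_three]; norm_num
  · simp [Matrix.trace_fin_three, Matrix.adjugate_fin_three]; norm_num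

theorem tr2_tv : tr2 (tv : SpecialLinearGroup (Fin 3) F) = (3, 3) := by
  rw [tr2, val_inv, tv]
  ext
  · simp [Matrix.trace_fin_three]; norm_num
  · simp [Matrix.trace_fin_three, Matrix.adjugate_fin_three]; norm_num

theorem tr2_one : tr2 (1 : SpecialLinearGroup (Fin 3) F) = (3, 3) := by
  rw [tr2, inv_one]
  show ((1 : Matrix (Fin 3) (Fin 3) F).trace, (1 : Matrix (Fin 3) (Fin 3) F).trace) = _
  simp

/-- conjugate Jordan elements -/
theorem jj_inj {a b : F} (ha : a ≠ 0) (hcube : ∀ x : F, x ≠ 0 → x ^ 3 = 1) (h : IsConj (jj a) (jj b)) : a = b := by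
  obtain ⟨g, hg⟩ := isConj_iff.1 h
  have h1 : g * jj a = jj b * g := by rw [← hg]; group
  have h2 : g.1 * !![1, a, 0; 0, 1, 1; 0, 0, 1] = !![1, b, 0; 0, 1, 1; 0, 0, 1] * g.1 :=
    congrArg Subtype.val h1
  have e : ∀ i j, (g.1 * !![1, a, 0; 0, 1, 1; 0, 0, 1]) i j = (!![1, b, 0; 0, 1, 1; 0, 0, 1] * g.1) i j :=
    fun i j => congrFun (congrFun h2 i) j
  have e21 := e 2 1
  have e22 := e 2 2
  have e11 := e 1 1
  have e12 := e 1 2
  have e01 := e 0 1
  simp [Matrix.mul_apply, Fin.sum_univ_three] at e21 e22 e11 e12 e01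
  have hdet := g.2
  rw [Matrix.det_fin_three] at hdet
  have g20 : g.1 2 0 = 0 := e21.resolve_right ha
  rw [e22, add_zero] at e11
  have g10 : g.1 1 0 = 0 := by
    have : g.1 1 0 * a = 0 := by linear_combination e11
    exact (mul_eq_zero.1 this).resolve_right ha
  have g11 : g.1 2 2 = g.1 1 1 := by linear_combination -e12
  rw [g20, e22, g10, g11] at hdet
  have h3 : g.1 1 1 ≠ 0 := by
    intro h0
    rw [h0] at hdet
    simp at hdet
  have h4 := hcube _ h3
  linear_combination (g.1 1 1) ^ 2 * e01 - a * hdet + b * h4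

/-- the order of the field -/
theorem cube_eq_one [Fintype F] (hF : Fintype.card F = 4) (x : F) (hx : x ≠ 0) : x ^ 3 = 1 := by
  have h := FiniteField.pow_card_sub_one_eq_one x hx
  rwa [hF] at h

theorem three_eq_one [Fintype F] (hF : Fintype.card F = 4) : (3 : F) = 1 := by
  have h : CharP F 2 := by
    obtain ⟨p, hp⟩ := CharP.exists F
    obtain ⟨n, hn, h2⟩ := FiniteField.card F p
    have h3 : p ∣ 4 := by rw [← hF, h2]; exact dvd_pow_self p n.pos.ne'
    have h4 : p = 2 := by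
      have h5 : p ∣ 2 ^ 2 := h3
      exact (Nat.prime_dvd_prime_iff_eq hn Nat.prime_two).1 (hn.dvd_of_dvd_pow h5)
    rwa [h4] at hp
  have h2 : (2 : F) = 0 := CharTwo.two_eq_zero
  linear_combination h2

theorem exists_omega [Fintype F] (hF : Fintype.card F = 4) : ∃ w : F, w ≠ 1 ∧ w ≠ 0 ∧ w ^ 3 = 1 ∧ w ^ 2 + w + 1 = 0 := by
  classical
  have h : ∃ w : F, w ∉ ({0, 1} : Finset F) := by
    by_contra hc
    push Not at hc
    have h1 : (Finset.univ : Finset F) ⊆ {0, 1} := fun x _ => hc x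
    have h2 := Finset.card_le_card h1
    rw [Finset.card_univ, hF] at h2
    have h3 := Finset.card_le_two (a := (0 : F)) (b := 1)
    omega
  obtain ⟨w, hw⟩ := h
  simp only [Finset.mem_insert, Finset.mem_singleton, not_or] at hw
  have h3 := cube_eq_one hF w hw.1
  refine ⟨w, hw.2, hw.1, h3, ?_⟩
  have h4 : (w - 1) * (w ^ 2 + w + 1) = 0 := by linear_combination h3
  exact (mul_eq_zero.1 h4).resolve_left (sub_ne_zero.2 hw.2)

/-- the parameters of the five classes with squarefree characteristic polynomial -/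
def par (w : F) : Fin 5 → F × F := ![(0, 0), (0, 1), (1, 0), (1, w), (1, w ^ 2)]

theorem par_inj {w : F} (h1 : w ≠ 1) (h0 : w ≠ 0) {i j : Fin 5} {r : F} (hr : r ^ 3 = 1)
    (h : par w i = (r * (par w j).1, r ^ 2 * (par w j).2)) : i = j := by
  have hr0 : r ≠ 0 := by
    rintro rfl
    simp at hr
  have hw2 : w ^ 2 ≠ w := by
    intro h2
    apply h1
    have : w * (w - 1) = 0 := by linear_combination h2
    exact sub_eq_zero.1 ((mul_eq_zero.1 this).resolve_left h0)
  have e1 : (par w i).1 = r * (par w j).1 := congrArg Prod.fst h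
  have e2 : (par w i).2 = r ^ 2 * (par w j).2 := congrArg Prod.snd h
  have e3 : (par w i).1 * (par w i).2 = (par w j).1 * (par w j).2 := by
    rw [e1, e2]
    linear_combination (par w j).1 * (par w j).2 * hr
  clear h
  have z1 : (par w i).1 = 0 ↔ (par w j).1 = 0 := by
    rw [e1, mul_eq_zero, or_iff_right hr0]
  have z2 : (par w i).2 = 0 ↔ (par w j).2 = 0 := by
    rw [e2, mul_eq_zero, or_iff_right (pow_ne_zero 2 hr0)]
  clear e1 e2
  have hw2' : w ≠ w ^ 2 := fun h => hw2 h.symm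
  fin_cases i <;> fin_cases j <;> simp [par, h0, hw2, hw2'] at e3 z1 z2 ⊢

theorem par_ne {w : F} (h1 : w ≠ 1) (h3 : w ^ 3 = 1) {i : Fin 5} {r : F} (hr : r ^ 3 = 1)
    (h : par w i = (r, r ^ 2)) : False := by
  have hw2 : w ^ 2 ≠ 1 := by
    intro h2
    apply h1
    linear_combination h3 - w * h2
  have e1 : (par w i).1 = r := congrArg Prod.fst h
  have e2 : (par w i).2 = r ^ 2 := congrArg Prod.snd h
  have e3 : (par w i).1 * (par w i).2 = 1 := by
    rw [e1, e2]
    linear_combination hr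
  clear h e1 e2
  fin_cases i
  · simp [par] at e3
  · simp [par] at e3
  · simp [par] at e3
  · simp only [par] at e3
    simp at e3
    exact h1 e3
  · have e4 : (1 : F) * w ^ 2 = 1 := e3
    rw [one_mul] at e4
    exact hw2 e4

/-- the five unipotent classes -/
def uni : Fin 2 ⊕ {a : F // a ≠ 0} → SpecialLinearGroup (Fin 3) F := Sum.elim ![1, tv] (fun a => jj a.1)

theorem tr2_uni (i : Fin 2 ⊕ {a : F // a ≠ 0}) : tr2 (uni i) = (3, 3) := by
  rcases i with i | a
  · fin_cases i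
    · exact tr2_one
    · exact tr2_tv
  · exact tr2_jj _

/-- unipotent of small class -/
theorem sub_sq_of_isConj {x y : SpecialLinearGroup (Fin 3) F} (h : IsConj x y) (hx : (x.1 - 1) * (x.1 - 1) = 0) :
    (y.1 - 1) * (y.1 - 1) = 0 := by
  obtain ⟨c, hc⟩ := isConj_iff.1 h
  have h1 : c.1 * (c⁻¹).1 = 1 := by
    rw [← val_mul, mul_inv_cancel]
    rfl
  have h2 : (c⁻¹).1 * c.1 = 1 := by
    rw [← val_mul, inv_mul_cancel]
    rfl
  have h3 : y.1 - 1 = c.1 * (x.1 - 1) * (c⁻¹).1 := by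
    rw [← hc, val_mul, val_mul, mul_sub, sub_mul, mul_one, h1]
  calc (y.1 - 1) * (y.1 - 1) = c.1 * (x.1 - 1) * ((c⁻¹).1 * c.1) * (x.1 - 1) * (c⁻¹).1 := by
        rw [h3]; simp only [mul_assoc]
    _ = c.1 * ((x.1 - 1) * (x.1 - 1)) * (c⁻¹).1 := by rw [h2]; simp only [mul_assoc, one_mul]
    _ = 0 := by rw [hx, mul_zero, zero_mul]

theorem jj_sub_sq (a : F) (ha : a ≠ 0) : ((jj a).1 - 1) * ((jj a).1 - 1) ≠ 0 := by
  intro h
  have := congrFun (congrFun h 0) 2
  simp [jj, Matrix.mul_apply, Fin.sum_univ_three] at this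
  exact ha this

theorem tv_sub_sq : ((tv : SpecialLinearGroup (Fin 3) F).1 - 1) * ((tv : SpecialLinearGroup (Fin 3) F).1 - 1) = 0 := by
  ext i j
  fin_cases i <;> fin_cases j <;> simp [tv, Matrix.mul_apply, Fin.sum_univ_three]

theorem tv_ne_one : (tv : SpecialLinearGroup (Fin 3) F) ≠ 1 := by
  intro h
  have := congrFun (congrFun (congrArg Subtype.val h) 0) 2
  simp [tv] at this

theorem one_sub_sq : ((1 : SpecialLinearGroup (Fin 3) F).1 - 1) * ((1 : SpecialLinearGroup (Fin 3) F).1 - 1) = 0 := by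
  show ((1 : Matrix (Fin 3) (Fin 3) F) - 1) * _ = 0
  rw [sub_self, zero_mul]

theorem uni_inj (hcube : ∀ x : F, x ≠ 0 → x ^ 3 = 1) {i j : Fin 2 ⊕ {a : F // a ≠ 0}} (h : IsConj (uni i) (uni j)) :
    i = j := by
  rcases i with i | a <;> rcases j with j | b
  · fin_cases i <;> fin_cases j
    · rfl
    · exact (tv_ne_one (isConj_one_right.1 h)).elim
    · exact (tv_ne_one (isConj_one_left.1 h)).elim
    · rfl
  · exfalso
    refine jj_sub_sq b.1 b.2 (sub_sq_of_isConj h ?_)
    fin_cases i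
    · exact one_sub_sq
    · exact tv_sub_sq
  · exfalso
    refine jj_sub_sq a.1 a.2 (sub_sq_of_isConj h.symm ?_)
    fin_cases j
    · exact one_sub_sq
    · exact tv_sub_sq
  · exact congrArg _ (Subtype.ext (jj_inj a.2 hcube h))

theorem sc_one : sc (1 : F) (one_pow 3) = 1 := Subtype.ext (one_smul _ _)

/-- **`k(L₃(4)) ≥ 10`** -/
theorem ten_le [Fintype F] (hF : Fintype.card F = 4) :
    10 ≤ Nat.card (ConjClasses (ProjectiveSpecialLinearGroup (Fin 3) F)) := by
  classical
  obtain ⟨w, hw1, hw0, hw3, -⟩ := exists_omega hF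
  have h31 := three_eq_one hF
  have hcube := cube_eq_one hF
  have h := H92.KTools.card_le_of_inj (G := ProjectiveSpecialLinearGroup (Fin 3) F)
    (Sum.elim (fun i : Fin 5 => QuotientGroup.mk (cc (par w i).1 (par w i).2))
      (fun i : Fin 2 ⊕ {a : F // a ≠ 0} => QuotientGroup.mk (uni i))) (by
    rintro (i | i) (j | j) hij
    · obtain ⟨r, hr, h1, h2⟩ := tr2_of_isConj_mk hij
      rw [tr2_cc, tr2_cc] at h2
      exact congrArg _ (par_inj hw1 hw0 hr h2)
    · obtain ⟨r, hr, h1, h2⟩ := tr2_of_isConj_mk hij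
      rw [tr2_cc, tr2_uni, h31, mul_one, mul_one] at h2
      exact (par_ne hw1 hw3 hr h2).elim
    · obtain ⟨r, hr, h1, h2⟩ := tr2_of_isConj_mk hij.symm
      rw [tr2_cc, tr2_uni, h31, mul_one, mul_one] at h2
      exact (par_ne hw1 hw3 hr h2).elim
    · obtain ⟨r, hr, h1, h2⟩ := tr2_of_isConj_mk hij
      rw [tr2_uni, tr2_uni, h31, mul_one, mul_one] at h2
      have hr1 : r = 1 := (congrArg Prod.fst h2).symm
      subst hr1
      rw [sc_one, mul_one] at h1
      exact congrArg _ (uni_inj hcube h1))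
  have h10 : Nat.card (Fin 5 ⊕ (Fin 2 ⊕ {a : F // a ≠ 0})) = 10 := by
    rw [Nat.card_sum, Nat.card_sum, Nat.card_fin, Nat.card_fin, Nat.card_eq_fintype_card,
      Fintype.card_subtype_compl, hF, Fintype.card_subtype_eq]
  rwa [h10] at h

theorem det_sub (x : Matrix (Fin 3) (Fin 3) F) (l : F) :
    (l • (1 : Matrix (Fin 3) (Fin 3) F) - x).det = l ^ 3 - x.trace * l ^ 2 + x.adjugate.trace * l - x.det := by
  rw [Matrix.det_fin_three, Matrix.det_fin_three, Matrix.trace_fin_three, Matrix.trace_fin_three,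
    Matrix.adjugate_fin_three]
  simp
  ring

/-- the diagonal element -/
def dg (w : F) (hw : w ^ 3 = 1) : SpecialLinearGroup (Fin 3) F :=
  ⟨diagonal ![1, w, w ^ 2], by
    rw [det_diagonal, Fin.prod_univ_three]
    simp
    linear_combination hw⟩

/-- two elements with zero traces are conjugate -/
theorem isConj_dg {w : F} (hw1 : w ≠ 1) (hw : w ^ 3 = 1) (x : SpecialLinearGroup (Fin 3) F) (hx : tr2 x = (0, 0)) :
    IsConj (dg w hw) x := by
  have hw0 : w ≠ 0 := by
    rintro rfl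
    simp at hw
  have ht : x.1.trace = 0 := congrArg Prod.fst hx
  have hs : x.1.adjugate.trace = 0 := congrArg Prod.snd hx
  have hw2 : w ^ 2 ≠ 1 := by
    intro h2
    apply hw1
    linear_combination hw - w * h2
  have hw12 : w ≠ w ^ 2 := by
    intro h2
    apply hw1
    have : w * (w - 1) = 0 := by linear_combination -h2
    exact sub_eq_zero.1 ((mul_eq_zero.1 this).resolve_left hw0)
  set μ : Fin 3 → F := ![1, w, w ^ 2] with hμ
  have hμ3 : ∀ i, μ i ^ 3 = 1 := by
    intro i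
    fin_cases i
    · simp [hμ]
    · simpa [hμ] using hw
    · simp [hμ]
      rw [← pow_mul, mul_comm, pow_mul, hw, one_pow]
  have hμi : Function.Injective μ := by
    intro i j hij
    fin_cases i <;> fin_cases j <;> simp [hμ, hw1, hw2, hw12, Ne.symm hw1, Ne.symm hw2, Ne.symm hw12] at hij ⊢
  have hv : ∀ i, ∃ v : Fin 3 → F, v ≠ 0 ∧ x.1 *ᵥ v = μ i • v := by
    intro i
    have h1 : (μ i • (1 : Matrix (Fin 3) (Fin 3) F) - x.1).det = 0 := by
      rw [det_sub, ht, hs, x.2, hμ3]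
      ring
    obtain ⟨v, hv0, hv⟩ := Matrix.exists_mulVec_eq_zero_iff.2 h1
    refine ⟨v, hv0, ?_⟩
    rw [Matrix.sub_mulVec, Matrix.smul_mulVec, Matrix.one_mulVec, sub_eq_zero] at hv
    exact hv.symm
  choose v hv0 hv using hv
  have hli : LinearIndependent F v := by
    refine Module.End.eigenvectors_linearIndependent' (Matrix.mulVecLin x.1) μ hμi v ?_
    intro i
    rw [Module.End.hasEigenvector_iff, Module.End.mem_eigenspace_iff]
    exact ⟨hv i, hv0 i⟩
  have hU : IsUnit (Matrix.of v) := Matrix.linearIndependent_rows_iff_isUnit.1 hli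
  have hdet : (Matrix.of v).det ≠ 0 := ((Matrix.isUnit_iff_isUnit_det _).1 hU).ne_zero
  set Q : Matrix (Fin 3) (Fin 3) F := (Matrix.of v)ᵀ with hQ
  have hQd : Q.det ≠ 0 := by rwa [hQ, det_transpose]
  have hxQ : x.1 * Q = Q * diagonal μ := by
    ext i j
    have h1 := congrFun (hv j) i
    rw [Matrix.mul_diagonal]
    simp only [Matrix.mulVec, dotProduct, Pi.smul_apply, smul_eq_mul] at h1
    rw [Matrix.mul_apply]
    simp only [hQ, Matrix.transpose_apply, Matrix.of_apply]
    rw [h1, mul_comm]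
  set D : Matrix (Fin 3) (Fin 3) F := diagonal ![(Q.det)⁻¹, 1, 1] with hD
  have hDdet : D.det = (Q.det)⁻¹ := by
    rw [hD, det_diagonal, Fin.prod_univ_three]
    simp
  let P : SpecialLinearGroup (Fin 3) F := ⟨Q * D, by rw [det_mul, hDdet, mul_inv_cancel₀ hQd]⟩
  have hP : x * P = P * dg w hw := by
    apply Subtype.ext
    show x.1 * (Q * D) = Q * D * diagonal ![1, w, w ^ 2]
    rw [← Matrix.mul_assoc, hxQ, Matrix.mul_assoc, Matrix.mul_assoc, hD, diagonal_mul_diagonal, diagonal_mul_diagonal]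
    congr 2
    ext i
    exact mul_comm _ _
  exact isConj_iff.2 ⟨P, by rw [← hP]; group⟩

/-- **`k(L₃(4)) ≤ 10`** -/
theorem le_ten [Fintype F] (hF : Fintype.card F = 4) :
    Nat.card (ConjClasses (ProjectiveSpecialLinearGroup (Fin 3) F)) ≤ 10 := by
  classical
  obtain ⟨w, hw1, hw0, hw3, -⟩ := exists_omega hF
  have h28 : Nat.card (ConjClasses (SpecialLinearGroup (Fin 3) F)) ≤ 28 := by
    have h := (S2479.result (F := F) 3 (by norm_num)).2.2 (by norm_num)
    rw [hF] at h
    exact h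
  have fin1 : Finite (ConjClasses (ProjectiveSpecialLinearGroup (Fin 3) F)) := Quotient.finite _
  have fin2 : Finite (ConjClasses (SpecialLinearGroup (Fin 3) F)) := Quotient.finite _
  have hrep : ∀ c : ConjClasses (ProjectiveSpecialLinearGroup (Fin 3) F), ∃ x : SpecialLinearGroup (Fin 3) F,
      ConjClasses.mk (QuotientGroup.mk x : ProjectiveSpecialLinearGroup (Fin 3) F) = c := by
    intro c
    obtain ⟨y, rfl⟩ := ConjClasses.exists_rep c
    obtain ⟨x, rfl⟩ := QuotientGroup.mk_surjective y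
    exact ⟨x, rfl⟩
  choose x hx using hrep
  have hmap : ∀ a b : SpecialLinearGroup (Fin 3) F, IsConj a b →
      ConjClasses.mk (QuotientGroup.mk a : ProjectiveSpecialLinearGroup (Fin 3) F) = ConjClasses.mk (QuotientGroup.mk b) := by
    intro a b hab
    rw [ConjClasses.mk_eq_mk_iff_isConj]
    exact MonoidHom.map_isConj (QuotientGroup.mk' _) hab
  set c0 : ConjClasses (ProjectiveSpecialLinearGroup (Fin 3) F) := ConjClasses.mk (QuotientGroup.mk (dg w hw3)) with hc0
  have hwp : ∀ i : ℕ, (w ^ i) ^ 3 = 1 := by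
    intro i
    rw [← pow_mul, mul_comm, pow_mul, hw3, one_pow]
  have hsc : ∀ (a : SpecialLinearGroup (Fin 3) F) (r : F) (hr : r ^ 3 = 1),
      (QuotientGroup.mk (a * sc r hr) : ProjectiveSpecialLinearGroup (Fin 3) F) = QuotientGroup.mk a := by
    intro a r hr
    rw [eq_comm, QuotientGroup.eq, inv_mul_cancel_left, Matrix.SpecialLinearGroup.mem_center_iff]
    refine ⟨r, by rw [Fintype.card_fin, hr], ?_⟩
    show _ = r • 1
    rw [Matrix.smul_one_eq_diagonal]
    rfl
  let f : ({c : ConjClasses (ProjectiveSpecialLinearGroup (Fin 3) F) // c ≠ c0} × Fin 3) ⊕ Unit →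
      ConjClasses (SpecialLinearGroup (Fin 3) F) :=
    Sum.elim (fun p => ConjClasses.mk (x p.1.1 * sc (w ^ p.2.1) (hwp _))) (fun _ => ConjClasses.mk (dg w hw3))
  have hf : Function.Injective f := by
    rintro (⟨c, i⟩ | u) (⟨d, j⟩ | u') h
    · have h1 : IsConj (x c.1 * sc (w ^ i.1) (hwp _)) (x d.1 * sc (w ^ j.1) (hwp _)) :=
        ConjClasses.mk_eq_mk_iff_isConj.1 h
      have h2 := hmap _ _ h1
      rw [hsc, hsc, hx, hx] at h2
      have h3 : c = d := Subtype.ext h2
      subst h3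
      by_cases hij : i = j
      · rw [hij]
      · exfalso
        have h4 := tr2_of_isConj h1
        simp only [tr2, trace_mul_sc, trace_inv_mul_sc, Prod.mk.injEq] at h4
        have hne : w ^ i.1 ≠ w ^ j.1 := by
          have hw2 : w ^ 2 ≠ 1 := by
            intro h2
            apply hw1
            linear_combination hw3 - w * h2
          have hw12 : w ≠ w ^ 2 := by
            intro h2
            apply hw1
            have : w * (w - 1) = 0 := by linear_combination -h2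
            exact sub_eq_zero.1 ((mul_eq_zero.1 this).resolve_left hw0)
          fin_cases i <;> fin_cases j <;> simp [hw1, hw2, hw12, Ne.symm hw1, Ne.symm hw2, Ne.symm hw12] at hij ⊢
        have hne2 : (w ^ i.1) ^ 2 ≠ (w ^ j.1) ^ 2 := by
          intro h5
          apply hne
          have h6 := hwp i.1
          have h7 := hwp j.1
          have h8 : w ^ j.1 ≠ 0 := pow_ne_zero _ hw0
          have h9 : (w ^ j.1) ^ 2 * (w ^ i.1 - w ^ j.1) = 0 := by
            linear_combination h6 - h7 - w ^ i.1 * h5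
          exact sub_eq_zero.1 ((mul_eq_zero.1 h9).resolve_left (pow_ne_zero 2 h8))
        have h5 : (x c.1).1.trace = 0 := by
          have : (w ^ i.1 - w ^ j.1) * (x c.1).1.trace = 0 := by linear_combination h4.1
          exact (mul_eq_zero.1 this).resolve_left (sub_ne_zero.2 hne)
        have h6 : ((x c.1)⁻¹).1.trace = 0 := by
          have : ((w ^ i.1) ^ 2 - (w ^ j.1) ^ 2) * ((x c.1)⁻¹).1.trace = 0 := by linear_combination h4.2
          exact (mul_eq_zero.1 this).resolve_left (sub_ne_zero.2 hne2)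
        have h7 := isConj_dg hw1 hw3 (x c.1) (Prod.ext h5 h6)
        have h8 := hmap _ _ h7
        rw [hx] at h8
        exact c.2 h8.symm
    · have h1 : IsConj (x c.1 * sc (w ^ i.1) (hwp _)) (dg w hw3) := ConjClasses.mk_eq_mk_iff_isConj.1 h
      have h2 := hmap _ _ h1
      rw [hsc, hx] at h2
      exact (c.2 h2).elim
    · have h1 : IsConj (dg w hw3) (x d.1 * sc (w ^ j.1) (hwp _)) := ConjClasses.mk_eq_mk_iff_isConj.1 h
      have h2 := hmap _ _ h1
      rw [hsc, hx] at h2
      exact (d.2 h2.symm).elim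
    · rfl
  have hcard := Nat.card_le_card_of_injective f hf
  rw [Nat.card_sum, Nat.card_prod, Nat.card_fin, Nat.card_unique (α := Unit)] at hcard
  have hsub : Nat.card {c : ConjClasses (ProjectiveSpecialLinearGroup (Fin 3) F) // c ≠ c0} =
      Nat.card (ConjClasses (ProjectiveSpecialLinearGroup (Fin 3) F)) - 1 := by
    have := Fintype.ofFinite (ConjClasses (ProjectiveSpecialLinearGroup (Fin 3) F))
    rw [Nat.card_eq_fintype_card, Nat.card_eq_fintype_card, Fintype.card_subtype_compl, Fintype.card_subtype_eq]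
  rw [hsub] at hcard
  omega

/-- **`k(L₃(4)) = 10`** -/
theorem card_eq_ten [Fintype F] (hF : Fintype.card F = 4) :
    Nat.card (ConjClasses (ProjectiveSpecialLinearGroup (Fin 3) F)) = 10 :=
  le_antisymm (le_ten hF) (ten_le hF)

end Cfsg.Agent.H93.LThreeFour
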