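import Cfsg.Agent.H93.PspTwo
import Cfsg.Agent.H93.LThreeThree
import Cfsg.Agent.H93.LThreeFour
import Cfsg.Agent.H525.AltK
import Cfsg.Agent.H525.PslK
import Cfsg.Agent.H674.PSUFourTwo
import Cfsg.Agent.H695.ESeven
import Cfsg.Agent.S0255
import Cfsg.Agent.S0256
import Cfsg.Agent.S0822

set_option autoImplicit false

/-! # Class numbers of the classical simple groups -/

namespace Cfsg.Agent.H93.Classical

open Matrix

/-- **`k(PSL_n(q)) ≥ 12`** for `n ≥ 3`, except for `L₃(2)` and `L₃(4)`. -/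
theorem twelve_le_psl {F : Type} [Field F] [Fintype F] (n : ℕ) (hn : 3 ≤ n)
    (h2 : ¬ (n = 3 ∧ Fintype.card F = 2)) (h4 : ¬ (n = 3 ∧ Fintype.card F = 4)) :
    12 ≤ Nat.card (ConjClasses (ProjectiveSpecialLinearGroup (Fin n) F)) := by
  have hq : 2 ≤ Fintype.card F := Fintype.one_lt_card
  by_cases h42 : n = 4 ∧ Fintype.card F = 2
  · obtain ⟨rfl, hF⟩ := h42
    obtain ⟨e⟩ := S0256.result hF
    rw [H92.KTools.card_classes_congr e]
    exact H525.AltK.alt_ge (le_refl 8)
  by_cases h33 : n = 3 ∧ Fintype.card F = 3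
  · obtain ⟨rfl, hF⟩ := h33
    exact LThreeThree.twelve_le hF
  · exact PslCharpoly.twelve_le_psl_gen n hn (by omega) (by omega)

/-- **`k(PSp_2m(q)) ≥ 12`** for `m ≥ 2`, `(m, q) ≠ (2, 2)`. -/
theorem twelve_le_psp {F : Type} [Field F] [Fintype F] (m : ℕ) (hm : 2 ≤ m)
    (h2 : m = 2 → 3 ≤ Fintype.card F) : 12 ≤ Nat.card (ConjClasses (PSp m F)) := by
  have hq : 2 ≤ Fintype.card F := Fintype.one_lt_card
  rcases Nat.lt_or_ge (Fintype.card F) 4 with h4 | h4
  · rcases Nat.eq_or_lt_of_le hm with h | h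
    · subst h
      have h3 : Fintype.card F = 3 := by
        have := h2 rfl
        omega
      have : Fintype (GaloisField 2 2) := Fintype.ofFinite _
      have h5 : Fintype.card (GaloisField 2 2) = 2 ^ 2 := by
        rw [← Nat.card_eq_fintype_card, GaloisField.card 2 2 (by norm_num)]
      obtain ⟨e⟩ := S0822.result (F := GaloisField 2 2) (K := F) h5 h3
      rw [← H92.KTools.card_classes_congr e]
      exact H674.PSUFourTwo.twelve_le _ h5
    · rcases Nat.eq_or_lt_of_le hq with h3 | h3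
      · exact PspTwo.twelve_le_psp_two m h h3.symm
      · exact PspCharpoly.twelve_le_psp_three m h (by omega)
  · exact PspCharpoly.twelve_le_psp_four m hm h4

end Cfsg.Agent.H93.Classical
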