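import Cfsg.Agent.H539.PartCount

set_option autoImplicit false

/-! # The alternating group of degree six has two classes of nontrivial `3`-elements. -/

namespace Cfsg.Agent.H93.AltSix

open Equiv Equiv.Perm

theorem cycleType_cases (σ : Perm (Fin 6)) (h1 : σ ≠ 1) (h9 : orderOf σ ∣ 9) :
    σ.cycleType = {3} ∨ σ.cycleType = {3, 3} := by
  have h2 : ∀ n ∈ σ.cycleType, n = 3 := by
    intro n hn
    have h3 : n ∣ 9 := (dvd_of_mem_cycleType hn).trans h9
    have h4 : 2 ≤ n := two_le_of_mem_cycleType hn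
    have h5 : n ≤ 6 := by
      have := Multiset.single_le_sum (fun x _ => Nat.zero_le x) n hn
      rw [sum_cycleType] at this
      exact this.trans ((Finset.card_le_univ _).trans (by simp))
    interval_cases n <;> simp_all
  have h3 : σ.cycleType = Multiset.replicate (Multiset.card σ.cycleType) 3 :=
    Multiset.eq_replicate_card.2 h2
  have h4 : σ.cycleType.sum ≤ 6 := by
    rw [sum_cycleType]
    exact (Finset.card_le_univ _).trans (by simp)
  have h5 : Multiset.card σ.cycleType ≠ 0 := by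
    intro h
    rw [Multiset.card_eq_zero, cycleType_eq_zero] at h
    exact h1 h
  generalize hk : Multiset.card σ.cycleType = k at h3 h5
  rw [h3] at h4 ⊢
  rw [Multiset.sum_replicate, smul_eq_mul] at h4
  have h6 : k = 1 ∨ k = 2 := by omega
  rcases h6 with rfl | rfl
  · left; rfl
  · right; rfl

theorem not_le (σ : Perm (Fin 6)) (h1 : σ ≠ 1) (h9 : orderOf σ ∣ 9) :
    ¬ Subgroup.centralizer {σ} ≤ alternatingGroup (Fin 6) := by
  rw [centralizer_le_alternating_iff]
  rintro ⟨-, h2, h3⟩
  rcases cycleType_cases σ h1 h9 with h | h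
  · rw [h] at h2
    simp at h2
  · have := h3 3
    rw [h] at this
    simp at this

theorem card_le {G : Type*} [Group G] (e : G ≃* alternatingGroup (Fin 6)) :
    Nat.card {C : ConjClasses G // ∃ g ∈ C.carrier, g ≠ 1 ∧ orderOf g ∣ 9} ≤ 2 := by
  classical
  have key : ∀ C : {C : ConjClasses G // ∃ g ∈ C.carrier, g ≠ 1 ∧ orderOf g ∣ 9},
      ∃ g ∈ C.1.carrier, g ≠ 1 ∧ orderOf g ∣ 9 := fun C => C.2
  choose g hg h1 h9 using key
  have h1' : ∀ C, ((e (g C) : alternatingGroup (Fin 6)) : Perm (Fin 6)) ≠ 1 := by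
    intro C h
    apply h1 C
    have h2 : e (g C) = 1 := Subtype.ext h
    rwa [map_eq_one_iff e e.injective] at h2
  have h9' : ∀ C, orderOf ((e (g C) : alternatingGroup (Fin 6)) : Perm (Fin 6)) ∣ 9 := by
    intro C
    have h3 : orderOf ((e (g C) : alternatingGroup (Fin 6)) : Perm (Fin 6)) = orderOf (g C) := by
      rw [Subgroup.orderOf_coe, MulEquiv.orderOf_eq]
    rw [h3]
    exact h9 C
  let f : {C : ConjClasses G // ∃ g ∈ C.carrier, g ≠ 1 ∧ orderOf g ∣ 9} →
      ({{3}, {3, 3}} : Finset (Multiset ℕ)) := fun C =>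
    ⟨((e (g C) : alternatingGroup (Fin 6)) : Perm (Fin 6)).cycleType, by
      rcases cycleType_cases _ (h1' C) (h9' C) with h | h <;> rw [h] <;> simp⟩
  have hf : Function.Injective f := by
    intro C D h
    have h4 : ((e (g C) : alternatingGroup (Fin 6)) : Perm (Fin 6)).cycleType =
        ((e (g D) : alternatingGroup (Fin 6)) : Perm (Fin 6)).cycleType := congrArg Subtype.val h
    have h5 := isConj_iff_cycleType_eq.2 h4
    have h6 := H539.PartCount.isConj_of_isConj_of_not_le _ _ h5 (not_le _ (h1' C) (h9' C))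
    rw [isConj_iff] at h6
    obtain ⟨c, hc⟩ := h6
    have h7 : IsConj (g C) (g D) := by
      rw [isConj_iff]
      refine ⟨e.symm c, e.injective ?_⟩
      simp [hc]
    have h8 := ConjClasses.mem_carrier_iff_mk_eq.1 (hg C)
    have h10 := ConjClasses.mem_carrier_iff_mk_eq.1 (hg D)
    apply Subtype.ext
    rw [← h8, ← h10]
    exact ConjClasses.mk_eq_mk_iff_isConj.2 h7
  calc Nat.card {C : ConjClasses G // ∃ g ∈ C.carrier, g ≠ 1 ∧ orderOf g ∣ 9}
      ≤ Nat.card ({{3}, {3, 3}} : Finset (Multiset ℕ)) := Nat.card_le_card_of_injective f hf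
    _ ≤ 2 := by
        rw [Nat.card_eq_fintype_card, Fintype.card_coe]
        exact Finset.card_le_two

end Cfsg.Agent.H93.AltSix
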