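import Cfsg.Agent.H771.KJ1
import Cfsg.Agent.H771.KJ2
import Cfsg.Agent.H771.KJ3
import Cfsg.Agent.H771.KJ4
import Cfsg.Agent.H771.KHS
import Cfsg.Agent.H771.KHe
import Cfsg.Agent.H771.KMT
import Cfsg.Agent.H771.KCo1
import Cfsg.Agent.H771.KCo23
import Cfsg.Agent.H771.KSuz
import Cfsg.Agent.H771.KRu
import Cfsg.Agent.H771.KON
import Cfsg.Agent.H328.KSpor
import Cfsg.Agent.H180.KMathieu
import Cfsg.Prelude.Def_Classification2

set_option autoImplicit false

/-! # Class numbers of the sporadic groups -/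

namespace Cfsg.Agent.H93.SporAlt

/-- every sporadic group other than `M₁₁` has at least 12 conjugacy classes -/
theorem spor {S : Type*} [Group S] (h : IsSporadicGroup S) :
    12 ≤ Nat.card (ConjClasses S) ∨ Spor.IsoM11 S := by
  rcases h with h | h | h | h | h | h | h | h | h | h | h | h | h | h | h | h | h | h | h | h | h | h | h | h | h | h
  · exact Or.inr h
  · exact Or.inl (H180.KMathieu.m12 h)
  · exact Or.inl (H180.KMathieu.m22 h)
  · exact Or.inl (H180.KMathieu.m23 h)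
  · exact Or.inl (H180.KMathieu.m24 h)
  · exact Or.inl (H771.KJ1.j1 h)
  · exact Or.inl (H771.KJ2.j2 h)
  · exact Or.inl (H771.KJ3.j3 h)
  · exact Or.inl (H771.KJ4.j4 h)
  · exact Or.inl (H771.KCo1.co1 h)
  · exact Or.inl (H771.KCo23.co2 h)
  · exact Or.inl (H771.KCo23.co3 h)
  · exact Or.inl (H771.KMT.mcl h)
  · exact Or.inl (H771.KHS.hs h)
  · exact Or.inl (H771.KSuz.suz h)
  · exact Or.inl (H771.KHe.he h)
  · exact Or.inl (H771.KRu.ru h)
  · exact Or.inl (H771.KON.on h)
  · exact Or.inl (H771.KMT.ly h)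
  · exact Or.inl (H328.KSpor.fi22 h)
  · exact Or.inl (H328.KSpor.fi23 h)
  · exact Or.inl (H328.KSpor.fi24 h)
  · exact Or.inl (H328.KSpor.hn h)
  · exact Or.inl (H328.KSpor.th h)
  · exact Or.inl (H328.KSpor.b h)
  · exact Or.inl (H328.KSpor.m h)

end Cfsg.Agent.H93.SporAlt
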