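import Cfsg.Agent.H93.Classical
import Cfsg.Agent.H93.SporAlt
import Cfsg.Agent.H674.TwelvePSU

set_option autoImplicit false

/-! # The known simple groups with at most eleven conjugacy classes -/

namespace Cfsg.Agent.H93.ClassNum

open Matrix

/-- the exceptional groups (one row) -/
def Exc (S : Type*) [Group S] : Prop :=
  12 ≤ Nat.card (ConjClasses S) ∨
    ∃ (F : Type) (_ : Field F) (_ : Fintype F), Fintype.card F = 8 ∧ Nonempty (S ≃* ↥(Lie.Sz F 4))

/-- the groups with at most eleven conjugacy classes -/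
inductive Small (S : Type*) [Group S] : Prop
  | alt (n : ℕ) (h5 : 5 ≤ n) (h7 : n ≤ 7) (e : Nonempty (S ≃* alternatingGroup (Fin n)))
  | psl2 (F : Type) (i1 : Field F) (i2 : Fintype F) (h : 4 ≤ Fintype.card F)
      (e : Nonempty (S ≃* ProjectiveSpecialLinearGroup (Fin 2) F))
  | psl32 (F : Type) (i1 : Field F) (i2 : Fintype F) (h : Fintype.card F = 2)
      (e : Nonempty (S ≃* ProjectiveSpecialLinearGroup (Fin 3) F))
  | psl34 (F : Type) (i1 : Field F) (i2 : Fintype F) (h : Fintype.card F = 4)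
      (e : Nonempty (S ≃* ProjectiveSpecialLinearGroup (Fin 3) F))
  | m11 (h : Spor.IsoM11 S)
  | sz (F : Type) (i1 : Field F) (i2 : Fintype F) (h : Fintype.card F = 8) (e : Nonempty (S ≃* ↥(Lie.Sz F 4)))

/-- **the known simple groups with at most eleven classes** -/
theorem known {S : Type*} [Group S] (h : IsKnownSimple' S) (hS : ¬ IsMulCommutative S)
    (hexc : IsExceptionalLieType S → Exc S) : 12 ≤ Nat.card (ConjClasses S) ∨ Small S := by
  rcases h with h | ⟨n, hn, ⟨e⟩⟩ | ⟨F, _, _, n, hn, hq, ⟨e⟩⟩ | ⟨F, _, _, m, hm, hq, ⟨e⟩⟩ | ⟨F, _, _, n, q, hF, hn, hne, ⟨e⟩⟩ |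
    h | h | h | h | h
  · have : Fact (Nat.card S).Prime := ⟨h⟩
    have hc : IsCyclic S := isCyclic_of_prime_card rfl
    exact (hS ⟨⟨fun a b => by
      obtain ⟨g, hg⟩ := hc.exists_generator
      obtain ⟨k, rfl⟩ := hg a
      obtain ⟨l, rfl⟩ := hg b
      exact (Commute.refl g).zpow_zpow k l⟩⟩).elim
  · rcases Nat.lt_or_ge n 8 with h8 | h8
    · exact Or.inr (Small.alt n hn (by omega) ⟨e⟩)
    · left
      rw [H92.KTools.card_classes_congr e]
      exact H525.AltK.alt_ge h8
  · rcases Nat.eq_or_lt_of_le hn with h2 | h2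
    · subst h2
      exact Or.inr (Small.psl2 F _ _ (hq rfl) ⟨e⟩)
    · by_cases h32 : n = 3 ∧ Fintype.card F = 2
      · obtain ⟨rfl, hF⟩ := h32
        exact Or.inr (Small.psl32 F _ _ hF ⟨e⟩)
      by_cases h34 : n = 3 ∧ Fintype.card F = 4
      · obtain ⟨rfl, hF⟩ := h34
        exact Or.inr (Small.psl34 F _ _ hF ⟨e⟩)
      left
      rw [H92.KTools.card_classes_congr e]
      exact Classical.twelve_le_psl n h2 h32 h34
  · left
    rw [H92.KTools.card_classes_congr e]
    exact Classical.twelve_le_psp m hm hq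
  · left
    rw [H92.KTools.card_classes_congr e]
    exact H674.TwelvePSU.twelve_le_psu F n q hF hn hne
  · exact Or.inl (H695.ESeven.twelve_le_of_isPOmegaOdd h)
  · exact Or.inl (H695.ESeven.twelve_le_of_isPOmegaPlus h)
  · exact Or.inl (H695.ESeven.twelve_le_of_isPOmegaMinus h)
  · rcases hexc h with h1 | ⟨F, i1, i2, h1, h2⟩
    · exact Or.inl h1
    · exact Or.inr (Small.sz F i1 i2 h1 h2)
  · rcases SporAlt.spor h with h1 | h1
    · exact Or.inl h1
    · exact Or.inr (Small.m11 h1)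

end Cfsg.Agent.H93.ClassNum
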