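import Cfsg.Agent.H93.ClassNum
import Cfsg.Agent.LieClassical.FieldTransfer

set_option autoImplicit false

/-! # Simple groups with nine, ten or eleven conjugacy classes -/

namespace Cfsg.Agent.H93.Final

open Matrix ClassNum

theorem psl2_card {F : Type} [Field F] [Fintype F] :
    (Even (Fintype.card F) ∧ Nat.card (ConjClasses (ProjectiveSpecialLinearGroup (Fin 2) F)) = Fintype.card F + 1) ∨
      (Odd (Fintype.card F) ∧ 2 * Nat.card (ConjClasses (ProjectiveSpecialLinearGroup (Fin 2) F)) = Fintype.card F + 5) := by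
  rcases Nat.even_or_odd (Fintype.card F) with h | h
  · exact Or.inl ⟨h, H525.PslK.psl2_even h⟩
  · exact Or.inr ⟨h, H525.PslK.psl2_odd h⟩

/-- the isomorphism with a group over `ZMod p` -/
theorem psl2_zmod {F : Type} [Field F] [Fintype F] {p : ℕ} (hp : p.Prime) (hF : Fintype.card F = p) :
    Nonempty (ProjectiveSpecialLinearGroup (Fin 2) F ≃* ProjectiveSpecialLinearGroup (Fin 2) (ZMod p)) := by
  have : Fact p.Prime := ⟨hp⟩
  exact ⟨LieClassical.FieldTransfer.pslCongr (ZMod.ringEquivOfPrime F hp hF).symm⟩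

theorem isPrimePow_card {F : Type} [Field F] [Fintype F] : IsPrimePow (Fintype.card F) :=
  FiniteField.isPrimePow_card F

theorem not_isPrimePow_fifteen : ¬ IsPrimePow 15 := by
  intro h
  rw [isPrimePow_nat_iff] at h
  obtain ⟨p, k, hp, hk, h⟩ := h
  have h3 : (3 : ℕ) ∣ p ^ k := by rw [h]; norm_num
  have h5 : (5 : ℕ) ∣ p ^ k := by rw [h]; norm_num
  have h3' := (Nat.prime_dvd_prime_iff_eq Nat.prime_three hp).1 (Nat.prime_three.dvd_of_dvd_pow h3)
  have h5' := (Nat.prime_dvd_prime_iff_eq Nat.prime_five hp).1 (Nat.prime_five.dvd_of_dvd_pow h5)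
  omega

theorem not_isPrimePow_ten : ¬ IsPrimePow 10 := by
  intro h
  rw [isPrimePow_nat_iff] at h
  obtain ⟨p, k, hp, hk, h⟩ := h
  have h3 : (2 : ℕ) ∣ p ^ k := by rw [h]; norm_num
  have h5 : (5 : ℕ) ∣ p ^ k := by rw [h]; norm_num
  have h3' := (Nat.prime_dvd_prime_iff_eq Nat.prime_two hp).1 (Nat.prime_two.dvd_of_dvd_pow h3)
  have h5' := (Nat.prime_dvd_prime_iff_eq Nat.prime_five hp).1 (Nat.prime_five.dvd_of_dvd_pow h5)
  omega

theorem alt_card {n : ℕ} (h5 : 5 ≤ n) (h7 : n ≤ 7) :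
    Nat.card (ConjClasses (alternatingGroup (Fin n))) ≤ 9 ∧
      (n ≠ 7 → Nat.card (ConjClasses (alternatingGroup (Fin n))) ≤ 7) := by
  have h : n = 5 ∨ n = 6 ∨ n = 7 := by omega
  rcases h with rfl | rfl | rfl
  · have := H525.AltK.alt_five
    omega
  · have := H525.AltK.alt_six
    omega
  · have := H525.AltK.alt_seven
    omega

theorem psl32_card {F : Type} [Field F] [Fintype F] (hF : Fintype.card F = 2) :
    Nat.card (ConjClasses (ProjectiveSpecialLinearGroup (Fin 3) F)) = 6 := by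
  have : Fact (Nat.Prime 7) := ⟨by norm_num⟩
  obtain ⟨e⟩ := S0255.result (F := ZMod 7) (K := F) (ZMod.card 7) hF
  rw [← H92.KTools.card_classes_congr e]
  have h := H525.PslK.psl2_odd (F := ZMod 7) (by rw [ZMod.card]; decide)
  rw [ZMod.card] at h
  omega

variable {S : Type*} [Group S]

/-- **the simple groups with nine classes** -/
theorem nine (h : IsKnownSimple' S) (hS : ¬ IsMulCommutative S) (hexc : IsExceptionalLieType S → Exc S)
    (hm : Nat.card (ConjClasses Spor.M11) = 10)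
    (hsz : ∀ (F : Type) [Field F] [Fintype F], Fintype.card F = 8 → 11 ≤ Nat.card (ConjClasses ↥(Lie.Sz F 4)))
    (hk : Nat.card (ConjClasses S) = 9) :
    (∃ (F : Type) (_ : Field F) (_ : Fintype F), Fintype.card F = 8 ∧
        Nonempty (S ≃* ProjectiveSpecialLinearGroup (Fin 2) F)) ∨
      Nonempty (S ≃* ProjectiveSpecialLinearGroup (Fin 2) (ZMod 13)) ∨
      Nonempty (S ≃* ↥(alternatingGroup (Fin 7))) := by
  rcases known h hS hexc with h1 | h1
  · omega
  rcases h1 with ⟨n, h5, h7, ⟨e⟩⟩ | ⟨F, i1, i2, hF, ⟨e⟩⟩ | ⟨F, i1, i2, hF, ⟨e⟩⟩ | ⟨F, i1, i2, hF, ⟨e⟩⟩ | ⟨⟨e⟩⟩ | ⟨F, i1, i2, hF, ⟨e⟩⟩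
  · rw [H92.KTools.card_classes_congr e] at hk
    by_cases hn : n = 7
    · subst hn
      exact Or.inr (Or.inr ⟨e⟩)
    · have := (alt_card h5 h7).2 hn
      omega
  · rw [H92.KTools.card_classes_congr e] at hk
    rcases psl2_card (F := F) with ⟨h2, h3⟩ | ⟨h2, h3⟩
    · exact Or.inl ⟨F, i1, i2, by omega, ⟨e⟩⟩
    · obtain ⟨e'⟩ := psl2_zmod (F := F) (p := 13) (by norm_num) (by omega)
      exact Or.inr (Or.inl ⟨e.trans e'⟩)
  · rw [H92.KTools.card_classes_congr e, psl32_card hF] at hk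
    omega
  · rw [H92.KTools.card_classes_congr e, LThreeFour.card_eq_ten hF] at hk
    omega
  · rw [H92.KTools.card_classes_congr e, hm] at hk
    omega
  · rw [H92.KTools.card_classes_congr e] at hk
    have := hsz F hF
    omega

/-- **the simple groups with ten classes** -/
theorem ten (h : IsKnownSimple' S) (hS : ¬ IsMulCommutative S) (hexc : IsExceptionalLieType S → Exc S)
    (hsz : ∀ (F : Type) [Field F] [Fintype F], Fintype.card F = 8 → 11 ≤ Nat.card (ConjClasses ↥(Lie.Sz F 4)))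
    (hk : Nat.card (ConjClasses S) = 10) :
    Nonempty (S ≃* ↥Cfsg.Spor.M11) ∨
      ∃ (F : Type) (_ : Field F) (_ : Fintype F), Fintype.card F = 4 ∧
        Nonempty (S ≃* ProjectiveSpecialLinearGroup (Fin 3) F) := by
  rcases known h hS hexc with h1 | h1
  · omega
  rcases h1 with ⟨n, h5, h7, ⟨e⟩⟩ | ⟨F, i1, i2, hF, ⟨e⟩⟩ | ⟨F, i1, i2, hF, ⟨e⟩⟩ | ⟨F, i1, i2, hF, ⟨e⟩⟩ | ⟨⟨e⟩⟩ | ⟨F, i1, i2, hF, ⟨e⟩⟩
  · rw [H92.KTools.card_classes_congr e] at hk
    have := (alt_card h5 h7).1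
    omega
  · rw [H92.KTools.card_classes_congr e] at hk
    rcases psl2_card (F := F) with ⟨h2, h3⟩ | ⟨h2, h3⟩
    · have h4 : Fintype.card F = 9 := by omega
      rw [h4] at h2
      exact absurd h2 (by decide)
    · have h4 : Fintype.card F = 15 := by omega
      exact absurd (h4 ▸ isPrimePow_card (F := F)) not_isPrimePow_fifteen
  · rw [H92.KTools.card_classes_congr e, psl32_card hF] at hk
    omega
  · exact Or.inr ⟨F, i1, i2, hF, ⟨e⟩⟩
  · exact Or.inl ⟨e⟩
  · rw [H92.KTools.card_classes_congr e] at hk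
    have := hsz F hF
    omega

/-- **the simple groups with eleven classes** -/
theorem eleven (h : IsKnownSimple' S) (hS : ¬ IsMulCommutative S) (hexc : IsExceptionalLieType S → Exc S)
    (hm : Nat.card (ConjClasses Spor.M11) = 10) (hk : Nat.card (ConjClasses S) = 11) :
    Nonempty (S ≃* ProjectiveSpecialLinearGroup (Fin 2) (ZMod 17)) ∨
      ∃ (F : Type) (_ : Field F) (_ : Fintype F), Fintype.card F = 8 ∧ Nonempty (S ≃* ↥(Cfsg.Lie.Sz F 4)) := by
  rcases known h hS hexc with h1 | h1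
  · omega
  rcases h1 with ⟨n, h5, h7, ⟨e⟩⟩ | ⟨F, i1, i2, hF, ⟨e⟩⟩ | ⟨F, i1, i2, hF, ⟨e⟩⟩ | ⟨F, i1, i2, hF, ⟨e⟩⟩ | ⟨⟨e⟩⟩ | ⟨F, i1, i2, hF, ⟨e⟩⟩
  · rw [H92.KTools.card_classes_congr e] at hk
    have := (alt_card h5 h7).1
    omega
  · rw [H92.KTools.card_classes_congr e] at hk
    rcases psl2_card (F := F) with ⟨h2, h3⟩ | ⟨h2, h3⟩
    · have h4 : Fintype.card F = 10 := by omega
      exact absurd (h4 ▸ isPrimePow_card (F := F)) not_isPrimePow_ten
    · obtain ⟨e'⟩ := psl2_zmod (F := F) (p := 17) (by norm_num) (by omega)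
      exact Or.inl ⟨e.trans e'⟩
  · rw [H92.KTools.card_classes_congr e, psl32_card hF] at hk
    omega
  · rw [H92.KTools.card_classes_congr e, LThreeFour.card_eq_ten hF] at hk
    omega
  · rw [H92.KTools.card_classes_congr e, hm] at hk
    omega
  · exact Or.inr ⟨F, i1, i2, hF, ⟨e⟩⟩

end Cfsg.Agent.H93.Final
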