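import Cfsg.Agent.H93.Final
import Cfsg.Agent.H92.ExcRows
import Cfsg.Agent.H868.KTwE6
import Cfsg.Agent.H868.KTwD4
import Cfsg.Agent.H870.KSz
import Cfsg.Agent.H870.KRee
import Cfsg.Agent.H180.KM11
import Cfsg.Agent.H436.Names

set_option autoImplicit false

/-! # The named simple groups with at most eleven conjugacy classes -/

namespace Cfsg.Agent.H93.Named

open Matrix ClassNum Cfsg Cfsg.Agent.OrdDiv Cfsg.Agent.H436

universe u

variable {S : Type u} [Group S] [Finite S]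

theorem spor' (h : IsSporadicGroup S) : 12 ≤ Nat.card (ConjClasses S) ∨ ClassNum.Small S := by
  rcases SporAlt.spor h with h1 | h1
  · exact Or.inl h1
  · exact Or.inr (ClassNum.Small.m11 h1)

/-- **every named simple group has at least twelve classes or is small** -/
theorem named {g : Grp} (h : IsNamed g S) : 12 ≤ Nat.card (ConjClasses S) ∨ ClassNum.Small S := by
  have hr := h.real
  have hc := h.cond
  cases g with
  | alt n =>
    obtain ⟨e⟩ := hr
    rcases Nat.lt_or_ge n 8 with h8 | h8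
    · exact Or.inr (ClassNum.Small.alt n hc (by omega) ⟨e⟩)
    · left
      rw [H92.KTools.card_classes_congr e]
      exact H525.AltK.alt_ge h8
  | psl n q =>
    obtain ⟨F, _, _, hF, ⟨e⟩⟩ := hr
    obtain ⟨hn, hq, -⟩ := hc
    rcases Nat.eq_or_lt_of_le hn with h2 | h2
    · subst h2
      exact Or.inr (ClassNum.Small.psl2 F _ _ (by rw [hF]; exact hq rfl) ⟨e⟩)
    · by_cases h32 : n = 3 ∧ Fintype.card F = 2
      · obtain ⟨rfl, hF⟩ := h32
        exact Or.inr (ClassNum.Small.psl32 F _ _ hF ⟨e⟩)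
      by_cases h34 : n = 3 ∧ Fintype.card F = 4
      · obtain ⟨rfl, hF⟩ := h34
        exact Or.inr (ClassNum.Small.psl34 F _ _ hF ⟨e⟩)
      left
      rw [H92.KTools.card_classes_congr e]
      exact Classical.twelve_le_psl n h2 h32 h34
  | psp m q =>
    obtain ⟨F, _, _, hF, ⟨e⟩⟩ := hr
    obtain ⟨hn, hq, -⟩ := hc
    left
    rw [H92.KTools.card_classes_congr e]
    exact Classical.twelve_le_psp m hn (by rw [hF]; exact hq)
  | psu n q =>
    obtain ⟨F, _, _, hF, ⟨e⟩⟩ := hr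
    obtain ⟨hn, hq, -⟩ := hc
    left
    rw [H92.KTools.card_classes_congr e]
    exact H674.TwelvePSU.twelve_le_psu F n q hF hn hq
  | oodd m q =>
    obtain ⟨F, _, _, hF, ⟨e⟩⟩ := hr
    obtain ⟨hn, hq, -⟩ := hc
    left
    rw [H92.KTools.card_classes_congr e]
    exact H695.ESeven.twelve_le_pomega_odd F m hn (by rw [hF]; exact hq)
  | oplus m q =>
    obtain ⟨F, _, _, hF, ⟨e⟩⟩ := hr
    left
    rw [H92.KTools.card_classes_congr e]
    exact H695.ESeven.twelve_le_pomega_plus F m hc.1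
  | ominus m q =>
    obtain ⟨F, _, _, a, b, hF, han, ⟨e⟩⟩ := hr
    left
    rw [H92.KTools.card_classes_congr e]
    exact H695.ESeven.twelve_le_pomega_minus F m a b hc.1 han
  | g2 q => exact Or.inl (H92.ExcRows.g2 h)
  | f4 q => exact Or.inl (H92.ExcRows.f4 h)
  | e6 q => exact Or.inl (H92.ExcRows.e6 h)
  | e7 q => exact Or.inl (H92.ExcRows.e7 h)
  | e8 q => exact Or.inl (H92.ExcRows.e8 h)
  | te6 q =>
    obtain ⟨F, _, _, hF, ⟨e⟩⟩ := hr
    left
    rw [H92.KTools.card_classes_congr e]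
    exact H868.KTwE6.te6 hc hF
  | td4 q =>
    obtain ⟨F, _, _, hF, ⟨e⟩⟩ := hr
    left
    rw [H92.KTools.card_classes_congr e]
    exact H868.KTwD4.td4 hc hF
  | sz q =>
    obtain ⟨F, _, _, m, hm, hF, hq, ⟨e⟩⟩ := hr
    rcases Nat.eq_or_lt_of_le hm with h1 | h1
    · subst h1
      exact Or.inr (ClassNum.Small.sz F _ _ (by rw [hF, hq]; norm_num) ⟨e⟩)
    · left
      rw [H92.KTools.card_classes_congr e]
      exact H870.KSz.sz h1 (hF.trans hq)
  | ree q =>
    obtain ⟨F, _, _, m, hm, hF, hq, ⟨e⟩⟩ := hr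
    left
    rw [H92.KTools.card_classes_congr e]
    exact H870.KRee.ree hm (hF.trans hq)
  | tf4 q => exact Or.inl (H92.ExcRows.tf4 h)
  | tits => exact Or.inl (H92.ExcRows.tits h)
  | m11 => exact Or.inr (ClassNum.Small.m11 hr)
  | m12 => exact Or.inl (H180.KMathieu.m12 hr)
  | m22 => exact Or.inl (H180.KMathieu.m22 hr)
  | m23 => exact Or.inl (H180.KMathieu.m23 hr)
  | m24 => exact Or.inl (H180.KMathieu.m24 hr)
  | j1 => exact Or.inl (H771.KJ1.j1 hr)
  | j2 => exact Or.inl (H771.KJ2.j2 hr)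
  | j3 => exact Or.inl (H771.KJ3.j3 hr)
  | j4 => exact Or.inl (H771.KJ4.j4 hr)
  | co1 => exact Or.inl (H771.KCo1.co1 hr)
  | co2 => exact Or.inl (H771.KCo23.co2 hr)
  | co3 => exact Or.inl (H771.KCo23.co3 hr)
  | mcl => exact Or.inl (H771.KMT.mcl hr)
  | hs => exact Or.inl (H771.KHS.hs hr)
  | suz => exact Or.inl (H771.KSuz.suz hr)
  | he => exact Or.inl (H771.KHe.he hr)
  | ru => exact Or.inl (H771.KRu.ru hr)
  | on => exact Or.inl (H771.KON.on hr)
  | ly => exact Or.inl (H771.KMT.ly hr)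
  | fi22 => exact Or.inl (H328.KSpor.fi22 hr)
  | fi23 => exact Or.inl (H328.KSpor.fi23 hr)
  | fi24 => exact Or.inl (H328.KSpor.fi24 hr)
  | hn => exact Or.inl (H328.KSpor.hn hr)
  | th => exact Or.inl (H328.KSpor.th hr)
  | b => exact Or.inl (H328.KSpor.b hr)
  | m => exact Or.inl (H328.KSpor.m hr)

omit [Finite S]

open Final

/-- **the simple groups with nine classes** -/
theorem nine (h : 12 ≤ Nat.card (ConjClasses S) ∨ ClassNum.Small S)
    (hk : Nat.card (ConjClasses S) = 9) :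
    (∃ (F : Type) (_ : Field F) (_ : Fintype F), Fintype.card F = 8 ∧
        Nonempty (S ≃* ProjectiveSpecialLinearGroup (Fin 2) F)) ∨
      Nonempty (S ≃* ProjectiveSpecialLinearGroup (Fin 2) (ZMod 13)) ∨
      Nonempty (S ≃* ↥(alternatingGroup (Fin 7))) := by
  rcases h with h1 | h1
  · omega
  rcases h1 with ⟨n, h5, h7, ⟨e⟩⟩ | ⟨F, i1, i2, hF, ⟨e⟩⟩ | ⟨F, i1, i2, hF, ⟨e⟩⟩ | ⟨F, i1, i2, hF, ⟨e⟩⟩ | ⟨⟨e⟩⟩ | ⟨F, i1, i2, hF, ⟨e⟩⟩
  · rw [H92.KTools.card_classes_congr e] at hk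
    by_cases hn : n = 7
    · subst hn
      exact Or.inr (Or.inr ⟨e⟩)
    · have := (alt_card h5 h7).2 hn
      omega
  · rw [H92.KTools.card_classes_congr e] at hk
    rcases psl2_card (F := F) with ⟨h2, h3⟩ | ⟨h2, h3⟩
    · exact Or.inl ⟨F, i1, i2, by omega, ⟨e⟩⟩
    · obtain ⟨e'⟩ := psl2_zmod (F := F) (p := 13) (by norm_num) (by omega)
      exact Or.inr (Or.inl ⟨e.trans e'⟩)
  · rw [H92.KTools.card_classes_congr e, psl32_card hF] at hk
    omega
  · rw [H92.KTools.card_classes_congr e, LThreeFour.card_eq_ten hF] at hk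
    omega
  · rw [H92.KTools.card_classes_congr e, H180.KM11.m11] at hk
    omega
  · rw [H92.KTools.card_classes_congr e] at hk
    have := H870.KSz.sz_eight (F := F) hF
    omega

/-- **the simple groups with ten classes** -/
theorem ten (h : 12 ≤ Nat.card (ConjClasses S) ∨ ClassNum.Small S)
    (hk : Nat.card (ConjClasses S) = 10) :
    Nonempty (S ≃* ↥Cfsg.Spor.M11) ∨
      ∃ (F : Type) (_ : Field F) (_ : Fintype F), Fintype.card F = 4 ∧
        Nonempty (S ≃* ProjectiveSpecialLinearGroup (Fin 3) F) := by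
  rcases h with h1 | h1
  · omega
  rcases h1 with ⟨n, h5, h7, ⟨e⟩⟩ | ⟨F, i1, i2, hF, ⟨e⟩⟩ | ⟨F, i1, i2, hF, ⟨e⟩⟩ | ⟨F, i1, i2, hF, ⟨e⟩⟩ | ⟨⟨e⟩⟩ | ⟨F, i1, i2, hF, ⟨e⟩⟩
  · rw [H92.KTools.card_classes_congr e] at hk
    have := (alt_card h5 h7).1
    omega
  · rw [H92.KTools.card_classes_congr e] at hk
    rcases psl2_card (F := F) with ⟨h2, h3⟩ | ⟨h2, h3⟩
    · have h4 : Fintype.card F = 9 := by omega
      rw [h4] at h2
      exact absurd h2 (by decide)
    · have h4 : Fintype.card F = 15 := by omega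
      exact absurd (h4 ▸ isPrimePow_card (F := F)) not_isPrimePow_fifteen
  · rw [H92.KTools.card_classes_congr e, psl32_card hF] at hk
    omega
  · exact Or.inr ⟨F, i1, i2, hF, ⟨e⟩⟩
  · exact Or.inl ⟨e⟩
  · rw [H92.KTools.card_classes_congr e] at hk
    have := H870.KSz.sz_eight (F := F) hF
    omega

/-- **the simple groups with eleven classes** -/
theorem eleven (h : 12 ≤ Nat.card (ConjClasses S) ∨ ClassNum.Small S)
    (hk : Nat.card (ConjClasses S) = 11) :
    Nonempty (S ≃* ProjectiveSpecialLinearGroup (Fin 2) (ZMod 17)) ∨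
      ∃ (F : Type) (_ : Field F) (_ : Fintype F), Fintype.card F = 8 ∧ Nonempty (S ≃* ↥(Cfsg.Lie.Sz F 4)) := by
  rcases h with h1 | h1
  · omega
  rcases h1 with ⟨n, h5, h7, ⟨e⟩⟩ | ⟨F, i1, i2, hF, ⟨e⟩⟩ | ⟨F, i1, i2, hF, ⟨e⟩⟩ | ⟨F, i1, i2, hF, ⟨e⟩⟩ | ⟨⟨e⟩⟩ | ⟨F, i1, i2, hF, ⟨e⟩⟩
  · rw [H92.KTools.card_classes_congr e] at hk
    have := (alt_card h5 h7).1
    omega
  · rw [H92.KTools.card_classes_congr e] at hk
    rcases psl2_card (F := F) with ⟨h2, h3⟩ | ⟨h2, h3⟩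
    · have h4 : Fintype.card F = 10 := by omega
      exact absurd (h4 ▸ isPrimePow_card (F := F)) not_isPrimePow_ten
    · obtain ⟨e'⟩ := psl2_zmod (F := F) (p := 17) (by norm_num) (by omega)
      exact Or.inl ⟨e.trans e'⟩
  · rw [H92.KTools.card_classes_congr e, psl32_card hF] at hk
    omega
  · rw [H92.KTools.card_classes_congr e, LThreeFour.card_eq_ten hF] at hk
    omega
  · rw [H92.KTools.card_classes_congr e, H180.KM11.m11] at hk
    omega
  · exact Or.inr ⟨F, i1, i2, hF, ⟨e⟩⟩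

end Cfsg.Agent.H93.Named
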