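import Cfsg.Agent.H93.PspCharpoly

set_option autoImplicit false

/-! # `Sp_2m(2)`, `m ≥ 3`, has at least 12 classes -/

namespace Cfsg.Agent.H93.PspTwo

open Matrix Polynomial PspCharpoly

variable {F : Type*} [Field F]

theorem real3_zmod2 : Real3 (ZMod 2) := by
  intro t d e
  fin_cases t <;> fin_cases d <;> fin_cases e
  · exact ⟨0, 0, 0, 0, 0, 0, rfl, rfl, rfl⟩
  · exact ⟨1, 1, 0, 0, 1, 0, rfl, rfl, rfl⟩
  · exact ⟨0, 0, 0, 1, 0, 0, rfl, rfl, rfl⟩
  · exact ⟨1, 1, 0, 1, 1, 0, rfl, rfl, rfl⟩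
  · exact ⟨1, 0, 0, 0, 0, 0, rfl, rfl, rfl⟩
  · exact ⟨1, 0, 0, 1, 1, 0, rfl, rfl, rfl⟩
  · exact ⟨1, 0, 0, 1, 0, 0, rfl, rfl, rfl⟩
  · exact ⟨1, 0, 0, 0, 1, 0, rfl, rfl, rfl⟩

theorem real3_of_card [Fintype F] (h : Fintype.card F = 2) : Real3 F := by
  have : Fact (Nat.Prime 2) := ⟨by norm_num⟩
  exact real3_zmod2.congr (ZMod.ringEquivOfPrime F (by norm_num) h)

/-- the rank of `x - 1` is a class function -/
theorem rank_of_isConj {m : ℕ} {x y : symplecticGroup (Fin m) F} (h : IsConj x y) :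
    (x.1 - 1).rank = (y.1 - 1).rank := by
  obtain ⟨u, hu⟩ := exists_unit_of_isConj h
  have h1 : y.1 - 1 = u.1 * (x.1 - 1) * u⁻¹.1 := by
    rw [hu, mul_sub, sub_mul, mul_one, Units.mul_inv]
  rw [h1, Matrix.rank_mul_eq_left_of_isUnit_det, Matrix.rank_mul_eq_right_of_isUnit_det]
  · exact (Matrix.isUnit_iff_isUnit_det _).1 u.isUnit
  · exact (Matrix.isUnit_iff_isUnit_det _).1 u⁻¹.isUnit

/-- the diagonal matrix of rank `r` -/
def dd (r n : ℕ) : Matrix (Fin n) (Fin n) F := diagonal fun i => if i.1 < r then 1 else 0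

theorem dd_transpose (r n : ℕ) : (dd (F := F) r n)ᵀ = dd r n := diagonal_transpose _

theorem rank_dd {r n : ℕ} (hr : r ≤ n) :
    (fromBlocks (0 : Matrix (Fin n) (Fin n) F) (dd r n) 0 (0 : Matrix (Fin n) (Fin n) F)).rank = r := by
  classical
  have h1 : fromBlocks (0 : Matrix (Fin n) (Fin n) F) (dd r n) 0 (0 : Matrix (Fin n) (Fin n) F) * fromBlocks 0 1 1 0 =
      diagonal (Sum.elim (fun i : Fin n => if i.1 < r then (1 : F) else 0) 0) := by
    rw [fromBlocks_multiply, ← fromBlocks_diagonal]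
    simp [dd]
  have h2 : IsUnit (fromBlocks (0 : Matrix (Fin n) (Fin n) F) 1 1 (0 : Matrix (Fin n) (Fin n) F)).det := by
    rw [← Matrix.isUnit_iff_isUnit_det]
    refine IsUnit.of_mul_eq_one (fromBlocks (0 : Matrix (Fin n) (Fin n) F) 1 1 (0 : Matrix (Fin n) (Fin n) F)) ?_
    rw [fromBlocks_multiply]
    simp
  rw [← Matrix.rank_mul_eq_left_of_isUnit_det _ _ h2, h1, rank_diagonal]
  have h3 : Function.Bijective (fun i : Fin r => (⟨Sum.inl (Fin.castLE hr i), by simp⟩ :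
      {i : Fin n ⊕ Fin n // Sum.elim (fun i : Fin n => if i.1 < r then (1 : F) else 0) 0 i ≠ 0})) := by
    constructor
    · intro i j hij
      simpa using hij
    · rintro ⟨i | i, hi⟩
      · simp at hi
        exact ⟨⟨i.1, hi⟩, by simp⟩
      · simp at hi
  rw [← Fintype.card_of_bijective h3, Fintype.card_fin]

/-- the unipotent element of rank `r` -/
def tt (r n : ℕ) : symplecticGroup (Fin n) F :=
  ⟨fromBlocks 1 (dd r n) 0 1, LieClassical.SympCenter.upper_mem n (dd_transpose r n)⟩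

theorem rank_tt {r n : ℕ} (hr : r ≤ n) : ((tt (F := F) r n).1 - 1).rank = r := by
  have h1 : (tt (F := F) r n).1 - 1 = fromBlocks (0 : Matrix (Fin n) (Fin n) F) (dd r n) 0 0 := by
    show fromBlocks 1 (dd r n) 0 1 - 1 = _
    rw [← fromBlocks_one, sub_eq_add_neg, fromBlocks_neg, fromBlocks_add]
    simp
  rw [h1, rank_dd hr]

theorem charpoly_tt (r n : ℕ) : (tt (F := F) r n).1.charpoly = ((X - 1) ^ 2) ^ n := by
  show (fromBlocks 1 (dd r n) 0 1).charpoly = _
  rw [charpoly_fromBlocks_zero₂₁, charpoly_one, Fintype.card_fin, ← mul_pow, pow_two]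

theorem tt_sq [CharP F 2] (r n : ℕ) : tt (F := F) r n * tt r n = 1 := by
  apply Subtype.ext
  show fromBlocks 1 (dd r n) 0 1 * fromBlocks 1 (dd r n) 0 1 = 1
  rw [fromBlocks_multiply, ← fromBlocks_one]
  congr 1
  · simp
  · rw [Matrix.one_mul, Matrix.mul_one, dd]
    ext i j
    rw [Matrix.add_apply, CharTwo.add_self_eq_zero, Matrix.zero_apply]
  · simp
  · simp

/-- a unipotent element which is not an involution -/
def uu (k : ℕ) : symplecticGroup (Fin (3 + k)) F := el k (s3 1 1 0 1 0 0) (s3_transpose _ _ _ _ _ _)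

theorem uu_sq (k : ℕ) : uu (F := F) k * uu k ≠ 1 := by
  intro h
  have h1 : mS (ext k (s3 (1 : F) 1 0 1 0 0)) * mS (ext k (s3 (1 : F) 1 0 1 0 0)) = 1 := congrArg Subtype.val h
  rw [mS, fromBlocks_multiply, ← fromBlocks_one] at h1
  have h2 := (fromBlocks_inj.1 h1).2.1
  have h3 := congrFun (congrFun h2 (Fin.castAdd k (0 : Fin 3))) (Fin.castAdd k (0 : Fin 3))
  simp [PspCharpoly.ext, s3] at h3

theorem charpoly_uu [CharP F 2] (k : ℕ) : (uu (F := F) k).1.charpoly = (X ^ 2 + 1) ^ (3 + k) := by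
  have h2 : (1 : F) + 1 = 0 := CharTwo.add_self_eq_zero 1
  rw [uu, charpoly_el, det_pS_s3]
  simp [h2]
  ring

theorem isConj_mul_self {G : Type*} [Group G] {x y : G} (h : IsConj x y) (hx : x * x = 1) : y * y = 1 := by
  obtain ⟨c, hc⟩ := isConj_iff.1 h
  rw [← hc]
  calc c * x * c⁻¹ * (c * x * c⁻¹) = c * (x * x) * c⁻¹ := by group
    _ = 1 := by rw [hx]; group

/-- the five unipotent elements -/
def five (k : ℕ) (i : Fin 5) : symplecticGroup (Fin (3 + k)) F := if i.1 < 4 then tt i.1 (3 + k) else uu k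

theorem X_sub_one_sq [CharP F 2] : ((X : F[X]) - 1) ^ 2 = X ^ 2 + 1 := by
  have h2 : (2 : F[X]) = 0 := by
    rw [← C_two, show (2 : F) = 0 from CharTwo.two_eq_zero, C_0]
  linear_combination (-X) * h2

theorem charpoly_five [CharP F 2] (k : ℕ) (i : Fin 5) : (five (F := F) k i).1.charpoly = (X ^ 2 + 1) ^ (3 + k) := by
  unfold five
  split_ifs
  · rw [charpoly_tt, X_sub_one_sq]
  · rw [charpoly_uu]

theorem five_inj [CharP F 2] (k : ℕ) {i j : Fin 5} (hij : IsConj (five (F := F) k i) (five k j)) : i = j := by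
  unfold five at hij
  split_ifs at hij with hi hj hj
  · have h4 := rank_of_isConj hij
    rw [rank_tt (by omega), rank_tt (by omega)] at h4
    exact Fin.ext h4
  · exact (uu_sq k (isConj_mul_self hij (tt_sq _ _))).elim
  · exact (uu_sq k (isConj_mul_self hij.symm (tt_sq _ _))).elim
  · exact Fin.ext (by omega)

theorem exists_poly3 (hR : Real3 F) (k : ℕ) (p : F × F × F) : ∃ x : symplecticGroup (Fin (3 + k)) F,
    x.1.charpoly = ((X ^ 2 + 1) ^ 3 - C p.1 * X * (X ^ 2 + 1) ^ 2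
      + C p.2.1 * X ^ 2 * (X ^ 2 + 1) - C p.2.2 * X ^ 3) * (X ^ 2 + 1) ^ k := by
  obtain ⟨a, b, c, u, v, w, h1, h2, h3⟩ := hR p.1 p.2.1 p.2.2
  refine ⟨el k (s3 a b c u v w) (s3_transpose _ _ _ _ _ _), ?_⟩
  rw [charpoly_el, det_pS_s3, h1, h2, h3]

/-- **`k(Sp_2m(2)) ≥ 12`** for `m ≥ 3`. -/
theorem twelve_le_sp_two [Fintype F] (hq : Fintype.card F = 2) (k : ℕ) :
    12 ≤ Nat.card (ConjClasses (symplecticGroup (Fin (3 + k)) F)) := by
  classical
  have : Finite (symplecticGroup (Fin (3 + k)) F) := Subtype.finite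
  have hchar : CharP F 2 := by
    have : Fact (Nat.Prime 2) := ⟨Nat.prime_two⟩
    exact charP_of_card_eq_prime hq
  choose f hf using exists_poly3 (real3_of_card hq) k
  have hne : ∀ (p : {p : F × F × F // p ≠ (0, 0, 0)}) i, ¬ IsConj (f p.1) (five k i) := by
    intro p i h
    have h4 := charpoly_eq_of_isConj h
    rw [hf, charpoly_five, pow_add] at h4
    have h5 := mul_right_cancel₀ (pow_ne_zero _ x2_ne) h4
    have h6 : (X ^ 2 + 1 : F[X]) ^ 3 = (X ^ 2 + 1) ^ 3 - C 0 * X * (X ^ 2 + 1) ^ 2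
      + C 0 * X ^ 2 * (X ^ 2 + 1) - C 0 * X ^ 3 := by simp
    obtain ⟨h7, h8, h9⟩ := poly3_inj (h5.trans h6)
    exact p.2 (Prod.ext h7 (Prod.ext h8 h9))
  have h := H92.KTools.card_le_of_inj (Sum.elim (fun p : {p : F × F × F // p ≠ (0, 0, 0)} => f p.1) (five (F := F) k)) (by
    rintro (p | i) (p' | j) hij
    · have h4 := charpoly_eq_of_isConj hij
      rw [Sum.elim_inl, Sum.elim_inl, hf, hf] at h4
      obtain ⟨h5, h6, h7⟩ := poly3_inj (mul_right_cancel₀ (pow_ne_zero _ x2_ne) h4)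
      exact congrArg _ (Subtype.ext (Prod.ext h5 (Prod.ext h6 h7)))
    · exact (hne _ _ hij).elim
    · exact (hne _ _ hij.symm).elim
    · exact congrArg _ (five_inj k hij))
  have h12 : Nat.card ({p : F × F × F // p ≠ (0, 0, 0)} ⊕ Fin 5) = 12 := by
    have h13 : Fintype.card {p : F × F × F // p ≠ (0, 0, 0)} = 7 := by
      rw [Fintype.card_subtype_compl]
      simp [hq]
    rw [Nat.card_sum, Nat.card_fin, Nat.card_eq_fintype_card, h13]
  rwa [h12] at h

/-- **`k(PSp_2m(2)) ≥ 12`** for `m ≥ 3`. -/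
theorem twelve_le_psp_two [Fintype F] (m : ℕ) (hm : 3 ≤ m) (hq : Fintype.card F = 2) :
    12 ≤ Nat.card (ConjClasses (PSp m F)) := by
  have h := psp_le (F := F) m (by omega)
  obtain ⟨k, rfl⟩ := Nat.exists_eq_add_of_le hm
  have h1 := twelve_le_sp_two (F := F) hq k
  rw [hq] at h
  norm_num at h
  omega

end Cfsg.Agent.H93.PspTwo
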